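import Groth.Agent.Lib.Curves.DegreeOne
import Groth.Agent.Lib.Curves.NormalGen
import Groth.Agent.H34.GenusZero.Family
import Groth.Agent.Lib.PicProjOver.Basic

/-!
# Morphisms of degree one to the line, and the degree of a section on a fibre
-/

set_option autoImplicit false
set_option linter.style.haveILetI false
set_option maxHeartbeats 1000000
universe u

open CategoryTheory CategoryTheory.Limits AlgebraicGeometry Opposite TopologicalSpace
open Groth.Agent.Lib.TensorMod Groth.Agent.Lib.TensorMod.Dual Groth.Agent.Lib.TensorMod.Gen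

noncomputable section

namespace Groth.Agent.Lib.Curves.DegreeOne

variable {k : Type u} [Field k] {X : Scheme.{u}} [X.Over (Spec (CommRingCat.of k))]
  [IsProper (X ↘ Spec (CommRingCat.of k))] [IsIntegral X]

/-- The map given by spanning sections of a module of degree one is an isomorphism. -/
theorem isIso_of_span_deg_one (hdim : topologicalKrullDim X = 1) {L : X.Modules} (hL : PicF.IsInvertible L)
    (hd : Curv2.deg k X L 1 = 1) (hn : Euler.hdim k X L 0 = 1 + 1) (s : Fin (1 + 1) → Γ(L, ⊤))
    (hspan : letI := GlobalSections.secModule k L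
      Submodule.span k (Set.range fun j => (show (L.val.obj (op ⊤) : Type u) from s j)) = ⊤)
    (r : X ⟶ CohB1.ProjSpace 1 k) (hr : r ≫ CohB1.ProjSpace.toSpec 1 k = X ↘ Spec (CommRingCat.of k))
    (τ : (Scheme.Modules.pullback r).obj (Twist.twistProjSpace 1 k 1) ≅ L)
    (hτ : ∀ i, τ.hom.app ⊤ (ProjUP.pullSec r (Twist.twistProjSpace 1 k 1) (ProjUP.coord 1 k i)) = s i) :
    IsIso r := by
  classical
  have hd1 : topologicalKrullDim X ≤ 1 := hdim.le
  haveI := GlobalSections.isNoetherian_of_proper k X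
  haveI := GlobalSections.noetherianSpace_of_proper k X
  letI := GlobalSections.secModule k L
  let P := CohB1.ProjSpace 1 k
  letI : P.Over (Spec (CommRingCat.of k)) := ⟨CohB1.ProjSpace.toSpec 1 k⟩
  haveI : IsProper (P ↘ Spec (CommRingCat.of k)) := ProjSpace.Basic.isProper_toSpec 1 k
  haveI : Smooth (P ↘ Spec (CommRingCat.of k)) := ProjSpace.Basic.smooth_toSpec 1 k
  haveI : IsNoetherian P := GlobalSections.isNoetherian_of_proper k P
  have hdP : topologicalKrullDim P = 1 := by
    rw [ProjSpace.Dim.topologicalKrullDim_projSpace]; simp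
  have hr' : r ≫ (P ↘ Spec (CommRingCat.of k)) = X ↘ Spec (CommRingCat.of k) := hr
  -- `r` is not constant
  have hξ : r (genericPoint X) = genericPoint P := by
    rcases H34.DimOne.isClosed_or_component hdP.le (r (genericPoint X)) with hc | hc
    · exfalso
      obtain ⟨D, i, a, hD, hxD, he, -⟩ := VeryAmple.exists_charts s r τ hτ (genericPoint X)
      have htop : (⊤ : X.Opens) ≤ r ⁻¹ᵁ D := fun z _ => by
        have := ((genericPoint_specializes z).map r.continuous).mem_closed hc rfl
        show r z ∈ D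
        rw [Set.mem_singleton_iff.mp this]
        exact hxD
      obtain ⟨e⟩ := nonempty_iso_of_gen (he.res htop)
      rw [Euler.deg_eq_of_iso e 1, Degree.deg_structureModule] at hd
      exact absurd hd (by norm_num)
    · rw [irreducibleComponents_eq_singleton, Set.mem_singleton_iff] at hc
      exact ((specializes_iff_mem_closure.mpr (hc ▸ Set.mem_univ _)).antisymm
        (genericPoint_specializes _)).eq
  haveI : IsProper (r ≫ (P ↘ Spec (CommRingCat.of k))) := hr' ▸ inferInstance
  haveI : IsProper r := IsProper.of_comp r (P ↘ Spec (CommRingCat.of k))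
  haveI : LocallyQuasiFinite r := CurveMaps.Basic.locallyQuasiFinite (X ↘ Spec (CommRingCat.of k))
    (P ↘ Spec (CommRingCat.of k)) r hdim hdP hr' hξ
  haveI : IsFinite r := IsFinite.of_isProper_of_locallyQuasiFinite r
  -- a rational point in the image
  obtain ⟨t, ht⟩ := GenusZero.exists_section_line k
  have ht' : t ≫ (P ↘ Spec (CommRingCat.of k)) = 𝟙 _ := ht
  haveI : IsClosedImmersion (t ≫ (P ↘ Spec (CommRingCat.of k))) := ht' ▸ inferInstance
  haveI : IsClosedImmersion t := IsClosedImmersion.of_comp t (P ↘ Spec (CommRingCat.of k))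
  have hy : IsClosed ({t default} : Set P) := by
    have h := t.isClosedEmbedding.isClosed_range
    rwa [show Set.range t = {t default} from Set.Subset.antisymm
      (by rintro _ ⟨w, rfl⟩; rw [Subsingleton.elim w default]; rfl)
      (by rintro _ rfl; exact ⟨default, rfl⟩)] at h
  obtain ⟨x, hx⟩ : t default ∈ Set.range r :=
    (genericPoint_specializes (t default)).mem_closed r.isClosedMap.isClosed_range
      ⟨genericPoint X, hξ⟩
  obtain ⟨D, i, a, hD, hxD, he, ha⟩ := VeryAmple.exists_charts s r τ hτ x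
  rw [hx] at hxD
  obtain ⟨hη, hnum⟩ := SepCriterion.fibre r hr' hdim hL s hspan (by omega) hy hD hxD
    (exists_scalar_of_section t ht' hD hxD) he ha
  set J := (PointIdeal.ptI hy).comap r with hJdef
  have hlen : Euler.hdim k X (ClSub.quotMod J) 0 ≤ 1 := by
    let F := CohB1.tensorMod (ClSub.idealMod J) L
    have hgF : Euler.IsGood k X F := IdealTwist.isGood_twist hd1 J hL
    haveI := hgF.fin₀
    haveI : Nontrivial (F.val.obj (op ⊤) : Type u) :=
      Clifford.nontrivial_sections (Module.nontrivial_of_finrank_pos (R := k) (by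
        change 0 < Euler.hdim k X (CohB1.tensorMod (ClSub.idealMod J) L) 0; omega))
    obtain ⟨z, hz⟩ := exists_ne (0 : (F.val.obj (op ⊤) : Type u))
    haveI := IdealTwist.mono_incl J hL
    obtain ⟨hmono, hT⟩ := Clifford.section_good hL (IdealTwist.incl J L) (t := z) hz
    haveI := hmono
    have hC : Coh.IsCoh (cokernel (Clifford.σ F z)) := CohBasics.Closure.isCoh_cokernel _
      Degree.isCoh_structureModule.1 (CurveBundle.Twist.isCoh hL (IdealTwist.isCoh_ideal J))
    have hgC := Finiteness.isGood_of_isCoh (k := k) hd1 hC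
    have hadd := Euler.euler_add (Positivity.cokerSES_shortExact (Clifford.σ F z))
      (Degree.isGood_structureModule (k := k) hd1) hgF hgC
    have hQ : Curv2.euler k X (cokernel (Clifford.σ F z)) =
        (Euler.hdim k X (cokernel (Clifford.σ F z)) 0 : ℤ) := hT.euler hd1
    have hχ : Curv2.euler k X F = Curv2.euler k X L - Euler.hdim k X (ClSub.quotMod J) 0 :=
      IdealTwist.euler_twist_ideal (k := k) hd1 hη hL
    rw [Degree.deg_eq] at hd
    change Curv2.euler k X F = Curv2.euler k X (Coh.structureModule X) +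
      Curv2.euler k X (cokernel (Clifford.σ F z)) at hadd
    omega
  obtain ⟨σ, hσ1, hσ⟩ := SepCriterion.exists_smul_mem_range r hr' hdim hy hD hxD hlen
  -- birationality
  have hηD : genericPoint X ∈ r ⁻¹ᵁ D := by
    show r (genericPoint X) ∈ D
    rw [hξ]
    exact (genericPoint_specializes (t default)).mem_open D.2 hxD
  have hfield : IsField (P.presheaf.stalk (r (genericPoint X))) :=
    hξ.symm ▸ (Field.toIsField P.functionField)
  letI := hfield.toField
  have hinj : Function.Injective (r.stalkMap (genericPoint X)) :=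
    (r.stalkMap (genericPoint X)).hom.injective
  have hσ0 : σ ≠ 0 := fun h => by
    rw [h, zero_sub] at hσ1
    exact (hD.primeIdealOf ⟨t default, hxD⟩).2.ne_top
      ((Ideal.eq_top_iff_one _).mpr (neg_neg (1 : Γ(P, D)) ▸ (Ideal.neg_mem_iff _).mpr hσ1))
  have hgσ : P.presheaf.germ D (r (genericPoint X)) hηD σ ≠ 0 := fun h =>
    hσ0 (germ_injective_of_isIntegral P (r (genericPoint X)) hηD (h.trans (map_zero _).symm))
  haveI : Nonempty (r ⁻¹ᵁ D : X.Opens) := ⟨⟨genericPoint X, hηD⟩⟩
  haveI := functionField_isFractionRing_of_isAffineOpen X (r ⁻¹ᵁ D) (hD.preimage r)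
  have hgerm : ∀ v : Γ(X, r ⁻¹ᵁ D), ∃ q, r.stalkMap (genericPoint X) q =
      X.presheaf.germ (r ⁻¹ᵁ D) (genericPoint X) hηD v := fun v => by
    obtain ⟨u, hu⟩ := hσ v
    refine ⟨P.presheaf.germ D (r (genericPoint X)) hηD u *
      (P.presheaf.germ D (r (genericPoint X)) hηD σ)⁻¹, ?_⟩
    rw [map_mul, map_inv₀, mul_inv_eq_iff_eq_mul₀ (fun h => hgσ (hinj (h.trans (map_zero _).symm))),
      mul_comm]
    exact (Scheme.Hom.germ_stalkMap_apply r D _ hηD u).trans ((congrArg _ hu).trans ((map_mul _ _ _).trans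
      (congrArg (· * _) (Scheme.Hom.germ_stalkMap_apply r D _ hηD σ).symm)))
  have hbij : Function.Bijective (r.stalkMap (genericPoint X)) := by
    refine ⟨hinj, fun z => ?_⟩
    obtain ⟨v, w, -, hvw⟩ := IsFractionRing.div_surjective (A := Γ(X, r ⁻¹ᵁ D)) (K := X.functionField) z
    obtain ⟨qv, hqv⟩ := hgerm v
    obtain ⟨qw, hqw⟩ := hgerm w
    exact ⟨qv * qw⁻¹, by rw [map_mul, map_inv₀, hqv, hqw]; exact (div_eq_mul_inv _ _).symm.trans hvw⟩
  have hN : Pi1.IsNormalScheme P := fun z => by
    haveI := Cyc.SmoothReg.isRegularLocalRing_stalk (P ↘ Spec (CommRingCat.of k)) z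
    haveI := Regular.Quotient.isDomain (P.presheaf.stalk z)
    haveI := Regular.UFD.uniqueFactorizationMonoid (P.presheaf.stalk z)
    exact ⟨inferInstance, inferInstance⟩
  haveI := Groth.Agent.S7830.result k (X ↘ Spec (CommRingCat.of k)) (P ↘ Spec (CommRingCat.of k))
    hdim hdP hN r hr' hξ ((ConcreteCategory.isIso_iff_bijective _).mpr hbij)
  exact (inferInstance : IsIso r)

end Groth.Agent.Lib.Curves.DegreeOne

namespace Groth.Agent.H34.Ruled

open Groth.Agent Groth.Agent.Lib Groth.Agent.Lib.Ample.GenLocus Groth.Agent.Lib.ProjMor.Sec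

variable {K : Type u} [Field K] {F : Scheme.{u}} [F.Over (Spec (CommRingCat.of K))]
  [IsProper (F ↘ Spec (CommRingCat.of K))] [IsIntegral F]

/-- A morphism to the line pulling `O(1)` back to degree one is an isomorphism on a curve of genus zero. -/
theorem isIso_of_deg_one (hdim : topologicalKrullDim F = 1)
    (h0 : Module.finrank K (Coh.HH F (Coh.structureModule F) 0) = 1) (hg : Curv2.genus K F = 0)
    (r : F ⟶ CohB1.ProjSpace 1 K) (hr : r ≫ CohB1.ProjSpace.toSpec 1 K = F ↘ Spec (CommRingCat.of K))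
    (hd : Curv2.deg K F ((Scheme.Modules.pullback r).obj (Twist.twistProjSpace 1 K 1)) 1 = 1) :
    IsIso r := by
  set L := (Scheme.Modules.pullback r).obj (Twist.twistProjSpace 1 K 1) with hLdef
  have hL : PicF.IsInvertible L := PicLoc.isInvertible_pullback r (PicProjOver.isInvertible_twistProjSpace 1 K 1)
  have hn : Curves.Euler.hdim K F L 0 = 1 + 1 := by
    have hh := Curves.Clifford.hdim_zero_eq_of_deg K hdim.le h0 hL (by rw [hg, hd]; norm_num)
    rw [hg, hd] at hh
    omega
  let s : Fin (1 + 1) → Γ(L, ⊤) := fun i =>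
    ProjUP.pullSec r (Twist.twistProjSpace 1 K 1) (ProjUP.coord 1 K i)
  have hgen : ProjUP.GeneratedBy L s := by
    refine ProjMor.Embed.generatedBy_of_locus s fun z => ?_
    obtain ⟨m, hm⟩ := Opens.mem_iSup.1
      ((ProjSpace.Basic.iSup_basicOpen_X_eq_top 1 K).ge (show r z ∈ (⊤ : (CohB1.ProjSpace 1 K).Opens) from trivial))
    refine ⟨m, (locus_pullback (PicProjOver.isInvertible_twistProjSpace 1 K 1) r _).ge ?_⟩
    exact (ProjMor.Frame.locus_g (ProjMor.Main.cover (ProjMor.Poly.lin_mem 1 K) (ProjMor.Poly.adjoin_lin 1 K))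
      ⟨MvPolynomial.X m, MvPolynomial.isHomogeneous_X K m⟩).ge hm
  letI := Curves.GlobalSections.secModule K L
  haveI : Module.Finite K (L.val.obj (op ⊤) : Type u) := by
    haveI := (Curves.Degree.isGood (k := K) hdim.le hL).fin₀
    exact Module.Finite.equiv (Curves.GlobalSections.h0Linear K L)
  have hfr : Module.finrank K (L.val.obj (op ⊤) : Type u) = 1 + 1 :=
    (Curves.GlobalSections.h0Linear K L).finrank_eq.symm.trans hn
  refine Curves.DegreeOne.isIso_of_span_deg_one (k := K) hdim hL hd hn s ?_ r hr (Iso.refl _) fun i => rfl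
  by_contra hne
  set V := Submodule.span K (Set.range fun j => (show (L.val.obj (op ⊤) : Type u) from s j)) with hV
  have hle : Module.finrank K V ≤ 1 := by
    have := Submodule.finrank_lt hne
    omega
  obtain ⟨v, hv⟩ := (finrank_le_one_iff (K := K) (V := V)).1 hle
  have hgv : ProjUP.GeneratedBy L (fun _ : Fin 1 => (show Γ(L, ⊤) from v.1)) := fun z => by
    refine eq_top_iff.2 ((hgen z).ge.trans (Submodule.span_le.2 ?_))
    rintro _ ⟨j, rfl⟩
    obtain ⟨c, hc⟩ := hv ⟨_, Submodule.subset_span ⟨j, rfl⟩⟩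
    have hc' : s j = (show Γ(F, ⊤) from Coh.toGlobal (F ↘ Spec (CommRingCat.of K)) c) • (show Γ(L, ⊤) from v.1) :=
      (congrArg Subtype.val hc).symm
    show (L.presheaf.germ ⊤ z trivial).hom (s j) ∈ _
    rw [hc']
    erw [Modules.StalkModule.germ_smul]
    exact Submodule.smul_mem _ _ (Submodule.subset_span ⟨0, rfl⟩)
  have htop : (⊤ : F.Opens) ≤ locus (show Γ(L, ⊤) from v.1) := fun z _ => by
    obtain ⟨i, hi⟩ := ProjMor.Sec.exists_mem_locus hL hgv z
    exact hi
  obtain ⟨e⟩ := Curves.DegreeOne.nonempty_iso_of_gen ((isGen_locus (show Γ(L, ⊤) from v.1)).res htop)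
  rw [Curves.Euler.deg_eq_of_iso e 1, Curves.Degree.deg_structureModule] at hd
  exact absurd hd (by norm_num)

/-- The dual of the ideal of a section has degree one on a fibre. -/
theorem deg_fibre {X S : Scheme.{u}} (f : X ⟶ S) [IsProper f] (σ : S ⟶ X) (hσ : σ ≫ f = 𝟙 S)
    (hJ : BlowUp.IsEffCartierIdeal σ.ker) (κ : Spec (CommRingCat.of K) ⟶ S) (g : F ⟶ X)
    (hsq : IsPullback g (F ↘ Spec (CommRingCat.of K)) f κ) (hdF : topologicalKrullDim F = 1) :
    Curv2.deg K F ((Scheme.Modules.pullback g).obj (TensorMod.Dual.dual (ClSub.idealMod σ.ker))) 1 = 1 := by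
  have hI : PicF.IsInvertible (ClSub.idealMod σ.ker) := Lib.ClSub.Cartier.isInvertible_idealMod hJ
  let M := TensorMod.Dual.dual (ClSub.idealMod σ.ker)
  have hM : PicF.IsInvertible M := Invertible.isInvertible_dual hI
  let eM : CohB1.tensorMod M (ClSub.idealMod σ.ker) ≅ Coh.structureModule X :=
    Basic.comm _ _ ≪≫ Invertible.tensorDualIso hI
  -- the module has degree one on the fibre
  obtain ⟨τ', hτ', hker, -⟩ := DegOneSection.exists_sec hsq σ hσ
  have hcl : IsClosed ({Curves.RationalPoint.pt (k := K) τ'} : Set F) :=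
    Curves.RationalPoint.isClosed_pt (k := K) τ' hτ'
  have hkey := Curves.RationalPoint.ker_eq (k := K) τ' hτ' hcl
  have hgp : genericPoint F ∉ ((σ.ker.comap g).support : Set F) := by
    refine Curves.IdealTwist.genericPoint_not_mem hdF ?_
    rw [hker, hkey, Curves.PointIdeal.support_ptI]
    exact (topologicalKrullDim_zero_of_discreteTopology
      ({Curves.RationalPoint.pt (k := K) τ'} : Set F))
  have hreg : ∀ (U : X.affineOpens) (s : Γ(X, U.1)), s ∈ nonZeroDivisors Γ(X, U.1) →
      σ.ker.ideal U = _root_.Ideal.span {s} → ∀ z (hz : z ∈ g ⁻¹ᵁ U.1),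
        F.presheaf.germ _ z hz (g.app U.1 s) ∈ nonZeroDivisors (F.presheaf.stalk z) := by
    intro U s _ hs z hz
    rw [mem_nonZeroDivisors_iff_ne_zero]
    intro h0
    haveI : Nonempty (g ⁻¹ᵁ U.1) := ⟨⟨z, hz⟩⟩
    have hs0 : g.app U.1 s = 0 := by
      apply germ_injective_of_isIntegral F z hz
      rw [h0, map_zero]
    have hηU : genericPoint F ∈ g ⁻¹ᵁ U.1 :=
      (genericPoint_specializes z).mem_open (Opens.isOpen _) hz
    have hnot : g (genericPoint F) ∉ σ.ker.support := fun h => hgp (by
      rw [Scheme.IdealSheafData.support_comap]; exact h)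
    rw [Lib.Ideal.Prime.mem_support_iff_le_prime σ.ker U hηU, hs, Ideal.span_singleton_le_iff_mem,
      ← Lib.Ideal.EffCartier.mem_basicOpen_iff_notMem_prime U.2 hηU] at hnot
    have h1 : genericPoint F ∈ F.basicOpen (g.app U.1 s) := by
      rw [← Scheme.preimage_basicOpen]; exact hnot
    rw [hs0, Scheme.basicOpen_zero] at h1
    exact h1
  obtain ⟨iJ⟩ := ModelFibre.IdealPull.nonempty_pullback_idealMod g hJ hreg
  have hIy : PicF.IsInvertible (ClSub.idealMod (σ.ker.comap g)) :=
    Invertible.isInvertible_of_iso iJ (PicLoc.isInvertible_pullback g hI)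
  have hLy : PicF.IsInvertible ((Scheme.Modules.pullback g).obj M) := PicLoc.isInvertible_pullback g hM
  have hd : Curv2.deg K F ((Scheme.Modules.pullback g).obj M) 1 = ((1 : ℕ) : ℤ) := by
    have hdI : Curv2.deg K F (ClSub.idealMod (σ.ker.comap g)) 1 = -1 := by
      rw [Curves.Degree.deg_idealMod hdF.le hIy hgp, hker, hkey,
        Curves.PointIdeal.hdim_quot_point hcl, Curves.RationalPoint.finrank_residueField (k := K) τ' hτ']
      rfl
    let ee : CohB1.tensorMod ((Scheme.Modules.pullback g).obj M) (ClSub.idealMod (σ.ker.comap g)) ≅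
        Coh.structureModule F :=
      Basic.tensorIso (Iso.refl _) iJ.symm ≪≫ (Pullback.pullbackTensorIso g _ _).symm ≪≫
        (Scheme.Modules.pullback g).mapIso eM ≪≫ PicLoc.pullbackStructureIso g
    have h := Curves.Degree.deg_tensor (k := K) hdF.le hLy hIy
    rw [Curves.Euler.deg_eq_of_iso ee, Curves.Degree.deg_structureModule, hdI] at h
    push_cast
    linarith
  exact_mod_cast hd

end Groth.Agent.H34.Ruled
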