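import Groth.Agent.H34.Ruled.Chart
import Groth.Agent.H34.Ruled.DegOne
import Groth.Agent.H34.GenusZero.Family
import Groth.Agent.H34.CanonFam
import Groth.Agent.H69.CounitStage
import Groth.Agent.Lib.Cyc.CH.BdlUniq
import Groth.Agent.Lib.Cyc.CH.Classify
import Groth.Agent.S10888
import Groth.Agent.S1636

/-!
# A family of lines with a section is the projective bundle of a module of rank two
-/

set_option autoImplicit false
set_option linter.style.haveILetI false
set_option maxHeartbeats 1000000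
universe u

open CategoryTheory CategoryTheory.Limits AlgebraicGeometry Opposite TopologicalSpace

noncomputable section

namespace Groth.Agent.H34.Ruled

open Groth.Agent Groth.Agent.Lib Groth.Agent.Lib.TensorMod Groth.Agent.Lib.TensorMod.Gen
open Groth.Agent.Lib.ProjMor Groth.Agent.Lib.ProjMor.Sec Groth.Agent.Lib.Ample.GenLocus
open Groth.Agent.Lib.ProjSpace.BaseChange ZarCoh.Exchange ZarCoh.Exchange.VeryAmpleNear

/-- A projective bundle composed with an isomorphism. -/
theorem isProjBundle_of_iso {S X P : Scheme.{u}} {p : P ⟶ S} {E : S.Modules} {O1 : P.Modules}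
    {q' : (Scheme.Modules.pullback p).obj E ⟶ O1} (hP : KRR.IsProjBundle p E O1 q') {f : X ⟶ S}
    {L : X.Modules} {q : (Scheme.Modules.pullback f).obj E ⟶ L} (hq : Epi q)
    (hL : FlatMod.IsFinLocFreeOfRank 1 L) {h : X ⟶ P} [IsIso h] (hg : h ≫ p = f)
    (e : (Scheme.Modules.pullback h).obj O1 ≅ L)
    (he : (Scheme.Modules.pullbackCongr hg).inv.app E ≫ (Scheme.Modules.pullbackComp h p).inv.app E ≫
        (Scheme.Modules.pullback h).map q' ≫ e.hom = q) :
    KRR.IsProjBundle f E L q := by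
  refine ⟨hL, hq, fun T g L' hL' s hs => ?_⟩
  obtain ⟨k, ⟨hk, i, hi⟩, -⟩ := hP.univ T g L' hL' s hs
  obtain ⟨k', rfl⟩ : ∃ k', k' ≫ h = k := ⟨k ≫ inv h, by rw [Category.assoc, IsIso.inv_hom_id, Category.comp_id]⟩
  have hk' : k' ≫ f = g := by rw [← hg, ← Category.assoc]; exact hk
  have hc : Cyc.CH.Classify.Carries q' hg q e.hom := Cyc.CH.Classify.Carries.of_comp_eq hg he
  let i' : (Scheme.Modules.pullback k').obj L ≅ L' := (Cyc.CH.Classify.compIso k' e).symm ≪≫ i
  have hi' : (Cyc.CH.Classify.compIso k' e).hom ≫ i'.hom = i.hom := by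
    simp only [i', Iso.trans_hom, Iso.symm_hom, Iso.hom_inv_id_assoc]
  have h1 := hc.comp hk' i'.hom (Cyc.CH.Classify.Carries.of_comp_eq hk' rfl :
    Cyc.CH.Classify.Carries q hk' _ i'.hom)
  have h2 := h1.comp_eq
  rw [hi'] at h2
  refine ⟨k', ⟨hk', i', h2.symm.trans hi⟩, ?_⟩
  rintro k'' ⟨hk'', i'', hi''⟩
  haveI := hs
  have h3 := hc.comp hk'' i''.hom (Cyc.CH.Classify.Carries.of_comp_eq hk'' hi'')
  exact (cancel_mono h).1 (Cyc.CH.Classify.eq_of_carries hP hL' s
    (i := Cyc.CH.Classify.compIso k'' e ≪≫ i'') h3 (i' := i)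
    (Cyc.CH.Classify.Carries.of_comp_eq hk hi))

/-- Over an affine open, the preimage with the projection to the spectrum of its ring. -/
theorem affine_square {X S : Scheme.{u}} (f : X ⟶ S) {U : S.Opens} (hU : IsAffineOpen U) (O : X.Opens)
    (hO : O = f ⁻¹ᵁ U) :
    ∃ f' : (O : Scheme.{u}) ⟶ Spec Γ(S, U), IsPullback O.ι f' f hU.fromSpec := by
  subst hO
  refine ⟨f ∣_ U ≫ hU.isoSpec.hom, ?_⟩
  refine ((isPullback_morphismRestrict f U).flip).of_iso (Iso.refl _) (Iso.refl _) hU.isoSpec (Iso.refl _)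
    ((Category.comp_id _).trans (Category.id_comp _).symm) (Category.id_comp _).symm
    ((Category.comp_id _).trans (Category.id_comp _).symm) ?_
  rw [Iso.refl_hom, Category.comp_id, hU.isoSpec_hom, hU.toSpecΓ_fromSpec]

variable {X S : Scheme.{u}} (f : X ⟶ S) [IsProper f] [Smooth f] [GeometricallyConnected f]
  [IsLocallyNoetherian S]

/-- The facts about the base change of a family of lines to a point. -/
theorem sq_facts (hdim : ∀ s, topologicalKrullDim ↥(f.fiber s) = 1)
    (hg0 : ∀ s, CohIII.fiberRank f (Coh.structureModule X) 1 s = 0)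
    {K : Type u} [Field K] {F : Scheme.{u}} [F.Over (Spec (CommRingCat.of K))]
    (κ : Spec (CommRingCat.of K) ⟶ S) [IsPreimmersion κ] (g : F ⟶ X)
    (hsq : IsPullback g (F ↘ Spec (CommRingCat.of K)) f κ) :
    IsProper (F ↘ Spec (CommRingCat.of K)) ∧ IsIntegral F ∧ topologicalKrullDim F = 1 ∧
      Module.finrank K (Coh.HH F (Coh.structureModule F) 0) = 1 ∧ Curv2.genus K F = 0 := by
  haveI : IsProper (F ↘ Spec (CommRingCat.of K)) := MorphismProperty.of_isPullback hsq ‹IsProper f›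
  haveI : Smooth (F ↘ Spec (CommRingCat.of K)) := MorphismProperty.of_isPullback hsq ‹Smooth f›
  haveI : GeometricallyConnected (F ↘ Spec (CommRingCat.of K)) :=
    MorphismProperty.of_isPullback hsq ‹GeometricallyConnected f›
  haveI : ConnectedSpace F := by
    haveI : Subsingleton (Spec (CommRingCat.of K)) := inferInstanceAs (Subsingleton (PrimeSpectrum K))
    haveI : Nonempty (Spec (CommRingCat.of K)) := inferInstanceAs (Nonempty (PrimeSpectrum K))
    exact GeometricallyConnected.connectedSpace_of_subsingleton (F ↘ Spec (CommRingCat.of K))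
  haveI : IsIntegral F := H2.Rigid.GeomIrred.isIntegral_of_smooth (F ↘ Spec (CommRingCat.of K))
  let v : Spec (CommRingCat.of K) := IsLocalRing.closedPoint K
  obtain ⟨θ, hθ, hθκ⟩ := GenusZero.exists_residue_factor κ v
  have key : IsPullback (f.fiberι (κ v)) (f.fiberToSpecResidueField (κ v) ≫ θ) f κ :=
    (IsPullback.of_hasPullback f (S.fromSpecResidueField (κ v))).of_iso (Iso.refl _) (Iso.refl _)
      (asIso θ) (Iso.refl _) ((Category.comp_id _).trans (Category.id_comp _).symm)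
      (Category.id_comp _).symm ((Category.comp_id _).trans (Category.id_comp _).symm)
      (by rw [Iso.refl_hom, Category.comp_id, asIso_hom, hθκ])
  let e := key.isoIsPullback _ _ hsq
  have hdF : topologicalKrullDim F = 1 :=
    (Scheme.homeoOfIso e).symm.isHomeomorph.topologicalKrullDim_eq.trans (hdim _)
  refine ⟨inferInstance, inferInstance, hdF, CurveFF.finrank_h0_eq_one K F, ?_⟩
  have hO := TensorMod.LocFree.of_rank (TensorMod.LocFree.of_isInvertible
    (PicLoc.isInvertible_structureModule X))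
  haveI : (Coh.structureModule X).IsQuasicoherent :=
    TensorMod.QCohInv.isQCoh_of_isInvertible (PicLoc.isInvertible_structureModule X)
  have h := ExchangeFP29.FieldPoint.fiberRank_baseChange f (Coh.structureModule X)
    (TensorMod.FPConv.isFP_of_isFinLocFree hO)
    (NearFibre.isFlatOver_of_isFinLocFree f hO) κ g (F ↘ Spec (CommRingCat.of K)) hsq 1 v
  rw [hg0, PicDegree.fiberRank_congr _ (PicLoc.pullbackStructureIso g),
    Elliptic.OverField.fiberRank_eq] at h
  exact h

omit [Smooth f] [GeometricallyConnected f] in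
theorem isPreimmersion_residue (A : Type u) [CommRing A] (x : PrimeSpectrum A) :
    IsPreimmersion (Spec.map (CommRingCat.ofHom (algebraMap A x.asIdeal.ResidueField))) := by
  rw [show Spec.map (CommRingCat.ofHom (algebraMap A x.asIdeal.ResidueField)) =
    Spec.map (Scheme.Spec.residueFieldIso (CommRingCat.of A) x).hom ≫
      (Spec (CommRingCat.of A)).fromSpecResidueField x from by
        rw [← Scheme.Spec.map_residueFieldIso_inv_eq_fromSpecResidueField, ← Category.assoc,
          ← Spec.map_comp, Iso.inv_hom_id, Spec.map_id, Category.id_comp]]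
  infer_instance

variable {M : X.Modules}

set_option maxHeartbeats 4000000 in
/-- A module of degree one on the fibres is generated relative to the base. -/
theorem genRel_of_deg (hdim : ∀ s, topologicalKrullDim ↥(f.fiber s) = 1)
    (hg0 : ∀ s, CohIII.fiberRank f (Coh.structureModule X) 1 s = 0) (hM : PicF.IsInvertible M)
    (hdeg : ∀ {K : Type u} [Field K] {F : Scheme.{u}} [F.Over (Spec (CommRingCat.of K))]
      [IsProper (F ↘ Spec (CommRingCat.of K))] [IsIntegral F]
      (κ : Spec (CommRingCat.of K) ⟶ S) (g : F ⟶ X),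
      IsPullback g (F ↘ Spec (CommRingCat.of K)) f κ → topologicalKrullDim F = 1 →
      Curv2.deg K F ((Scheme.Modules.pullback g).obj M) 1 = 1) (z : X) :
    H69.CounitStage.GenRel f M z := by
  obtain ⟨U, hU, hzU, -⟩ := exists_isAffineOpen_mem_and_subset (U := ⊤) (x := f z) trivial
  let O := f ⁻¹ᵁ U
  obtain ⟨f', hO⟩ := affine_square f hU O rfl
  let A := Γ(S, U)
  haveI : IsNoetherianRing A := IsLocallyNoetherian.component_noetherian ⟨U, hU⟩
  haveI : IsProper f' := MorphismProperty.of_isPullback hO ‹IsProper f›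
  haveI : Smooth f' := MorphismProperty.of_isPullback hO ‹Smooth f›
  let z₀ : (O : Scheme.{u}) := ⟨z, hzU⟩
  let x : PrimeSpectrum A := f' z₀
  let M' := (Scheme.Modules.pullback O.ι).obj M
  have hM' : PicF.IsInvertible M' := PicLoc.isInvertible_pullback O.ι hM
  -- the fibre
  let K := x.asIdeal.ResidueField
  let κ : Spec (CommRingCat.of K) ⟶ Spec A := Spec.map (CommRingCat.ofHom (algebraMap A K))
  let F := f'.fiber x
  letI : F.Over (Spec (CommRingCat.of K)) :=
    ⟨f'.fiberToSpecResidueField x ≫ Spec.map (Scheme.Spec.residueFieldIso A x).inv⟩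
  let p₀ := F ↘ Spec (CommRingCat.of K)
  let g := f'.fiberι x
  have hsq : IsPullback g p₀ f' κ := Fibre.isPullback_fiber f' x
  haveI : IsPreimmersion κ := isPreimmersion_residue A x
  have hsq' : IsPullback (g ≫ O.ι) p₀ f (κ ≫ hU.fromSpec) := hsq.paste_horiz hO
  obtain ⟨hFp, hFi, hdF, h0, hgF⟩ := sq_facts f hdim hg0 (κ ≫ hU.fromSpec) (g ≫ O.ι) hsq'
  haveI := hFp
  haveI := hFi
  let L' := (Scheme.Modules.pullback g).obj M'
  have hLy : PicF.IsInvertible L' := PicLoc.isInvertible_pullback g hM'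
  have hd : Curv2.deg K F L' 1 = ((1 : ℕ) : ℤ) := by
    refine (Curves.Euler.deg_eq_of_iso (k := K) ((Scheme.Modules.pullbackComp g O.ι).app M) 1).trans ?_
    exact_mod_cast hdeg _ _ hsq' hdF
  obtain ⟨v, hv, hvK, ⟨ψ⟩⟩ := Groth.Agent.S1636.result K F hdF h0 hgF _ hLy 1 one_pos hd
  let i : F ⟶ CohB1.ProjSpaceOver 1 (Spec (CommRingCat.of K)) := v ≫ (overSpecIso 1 K).inv
  let Z : Type u := ULift.{u} ℤ
  let O1 := Twist.twistProjSpace 1 Z 1
  have hifst : i ≫ pullback.fst _ _ = v ≫ projMap 1 (ulz K) := by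
    rw [← overSpecIso_hom_projMap 1 K]
    exact (Category.assoc _ _ _).trans (congrArg (v ≫ ·) ((overSpecIso 1 K).inv_hom_id_assoc _))
  let L'' := (Scheme.Modules.pullback (i ≫ pullback.fst _ _)).obj O1
  obtain ⟨φ₀⟩ : Nonempty (L' ≅ L'') := by
    obtain ⟨τ⟩ : Nonempty ((Scheme.Modules.pullback (projMap 1 (ulz K))).obj O1 ≅
        ProjCoh.Coherent.tw 1 K 1) :=
      Groth.Agent.Lib.ProperFin.ProjFacts.nonempty_pullback_O 1 Z K (ulz K) 1
    exact ⟨ψ.symm ≪≫ (Scheme.Modules.pullback v).mapIso τ.symm ≪≫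
      (Scheme.Modules.pullbackComp v _).app O1 ≪≫ (Scheme.Modules.pullbackCongr hifst.symm).app O1⟩
  haveI : IsLocallyNoetherian (O : Scheme.{u}) := LocallyOfFiniteType.isLocallyNoetherian f'
  have hlf := LocFree.of_rank (LocFree.of_isInvertible hM')
  have hcoh : Coh.IsCoh M' := Perfect.Coherent.isCoh_of_isFinLocFree hlf
  haveI : M'.IsQuasicoherent := hcoh.1
  have hfl : FlatMod.IsFlatOver f' M' := NearFibre.isFlatOver_of_isFinLocFree f' hlf
  have hrank : CohIII.fiberRank f' M' 1 x = 0 := by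
    haveI : Subsingleton (CohIII.fiberH f' M' x 1) := by
      exact Curves.Clifford.subsingleton_one_of_deg K hdF.le h0 hLy (by rw [hgF, hd]; norm_num)
    exact Module.finrank_zero_of_subsingleton
  obtain ⟨T₀, hT₀⟩ : ∃ T₀ : Fin (1 + 1) → ProjUP.Γm L',
      ∀ m, T₀ m = φ₀.inv.app ⊤ (ProjUP.pullSec (i ≫ pullback.fst _ _) O1 (ProjUP.coord 1 Z m)) :=
    ⟨_, fun m => rfl⟩
  letI : (O : Scheme.{u}).Over (Spec (CommRingCat.of A)) := ⟨f'⟩
  haveI : IsProper ((O : Scheme.{u}) ↘ Spec (CommRingCat.of A)) := ‹IsProper f'›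
  obtain ⟨s, t, ht⟩ := exists_lift_family x hsq M' hcoh hfl
    (fun P _ _ e₁ => ((Fibre.fiberRank_eq f' M' x e₁).symm.trans hrank)) T₀
  obtain ⟨φ, hφ⟩ : ∃ φ : L' ≅ L'', ∀ m, φ.hom.app ⊤ (ProjUP.pullSec g M' (t m)) =
      ProjUP.pullSec (i ≫ pullback.fst _ _) O1 (ProjUP.coord 1 Z m) :=
    ⟨s ≪≫ φ₀, fun m => app_inv_app s φ₀ _ _ ((ht m).trans (hT₀ m))⟩
  obtain ⟨z', hz'⟩ : z₀ ∈ Set.range g := (f'.range_fiberι x).ge rfl
  obtain ⟨m, hm⟩ := Opens.mem_iSup.1 (PD92.ProjDeform.exists_mem_locus g 1 M' hM' _ t φ hφ z')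
  rw [hz'] at hm
  obtain ⟨s₁, hs₁⟩ := exists_hom_of_sec (L := (Scheme.Modules.pullback O.ι).obj M) (t m)
  refine H69.CounitStage.genRel_of_hom (W := U) (O := O) rfl hM s₁ (z := z₀) ?_
  refine le_genLocus ?_ hm
  rw [← rs_sv s₁ (le_top : locus (t m) ≤ ⊤), hs₁]
  exact isGen_locus (t m)

/-- A family of lines with a module of degree one on the fibres is a projective bundle. -/
theorem exists_isProjBundle_of_deg (hdim : ∀ s, topologicalKrullDim ↥(f.fiber s) = 1)
    (hg0 : ∀ s, CohIII.fiberRank f (Coh.structureModule X) 1 s = 0) (hM : PicF.IsInvertible M)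
    (hdeg : ∀ {K : Type u} [Field K] {F : Scheme.{u}} [F.Over (Spec (CommRingCat.of K))]
      [IsProper (F ↘ Spec (CommRingCat.of K))] [IsIntegral F]
      (κ : Spec (CommRingCat.of K) ⟶ S) (g : F ⟶ X),
      IsPullback g (F ↘ Spec (CommRingCat.of K)) f κ → topologicalKrullDim F = 1 →
      Curv2.deg K F ((Scheme.Modules.pullback g).obj M) 1 = 1) :
    ∃ (E : S.Modules) (q : (Scheme.Modules.pullback f).obj E ⟶ M),
      FlatMod.IsFinLocFreeOfRank 2 E ∧ KRR.IsProjBundle f E M q := by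
  haveI : IsLocallyNoetherian X := LocallyOfFiniteType.isLocallyNoetherian f
  let E := (Scheme.Modules.pushforward f).obj M
  let q : (Scheme.Modules.pullback f).obj E ⟶ M :=
    (Scheme.Modules.pullbackPushforwardAdjunction f).counit.app M
  haveI hq : Epi q := H69.CounitStage.epi_counit f (genRel_of_deg f hdim hg0 hM hdeg)
  -- the direct image
  have hrk : ∀ y : S, CohIII.fiberRank f M 1 y = 0 ∧ CohIII.fiberRank f M 0 y = 2 := fun y => by
    letI : (f.fiber y).Over (Spec (CommRingCat.of (S.residueField y))) := ⟨f.fiberToSpecResidueField y⟩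
    have hsq : IsPullback (f.fiberι y) (f.fiber y ↘ Spec (CommRingCat.of (S.residueField y))) f
        (S.fromSpecResidueField y) := IsPullback.of_hasPullback f (S.fromSpecResidueField y)
    obtain ⟨hFp, hFi, hdF, h0, hgF⟩ := sq_facts (K := S.residueField y) f hdim hg0 (S.fromSpecResidueField y) (f.fiberι y) hsq
    haveI := hFp
    haveI := hFi
    have hd := hdeg (K := S.residueField y) _ _ hsq hdF
    have hinv := PicLoc.isInvertible_pullback (f.fiberι y) hM
    have hbig : 2 * (Curv2.genus (S.residueField y) (f.fiber y) : ℤ) - 2 <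
        Curv2.deg (S.residueField y) (f.fiber y) ((Scheme.Modules.pullback (f.fiberι y)).obj M) 1 := by
      rw [hgF, hd]; norm_num
    haveI := Curves.Clifford.subsingleton_one_of_deg (S.residueField y) hdF.le h0 hinv hbig
    have hz := Curves.Clifford.hdim_zero_eq_of_deg (S.residueField y) hdF.le h0 hinv hbig
    rw [hgF, hd] at hz
    refine ⟨?_, ?_⟩
    · change Curves.Euler.hdim (S.residueField y) (f.fiber y) ((Scheme.Modules.pullback (f.fiberι y)).obj M) 1 = 0
      exact Module.finrank_zero_of_subsingleton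
    · change Curves.Euler.hdim (S.residueField y) (f.fiber y) ((Scheme.Modules.pullback (f.fiberι y)).obj M) 0 = 2
      omega
  have hE : FlatMod.IsFinLocFreeOfRank (1 + 1) E := by
    have hF' := TensorMod.LocFree.of_rank (TensorMod.LocFree.of_isInvertible hM)
    have hF : CohB1.IsFP M := TensorMod.FPConv.isFP_of_isFinLocFree hF'
    haveI : M.IsQuasicoherent :=
      have : SheafOfModules.IsFinitePresentation (R := X.ringCatSheaf) M := hF
      inferInstance
    have hfl : FlatMod.IsFlatOver f M := NearFibre.isFlatOver_of_isFinLocFree f hF'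
    intro y
    obtain ⟨V, hV, hyV, -⟩ := exists_isAffineOpen_mem_and_subset (U := ⊤) (x := y) trivial
    haveI : IsAffine (V : Scheme.{u}) := hV
    obtain ⟨P, hP, he, -, hz⟩ := ExchangeFP29.Main.exists_of_vanish f M hF hfl V
    obtain ⟨e⟩ := he 0
    have hq : Module.Flat (_root_.ZarCoh.Exchange.Local.AV V) (FlatCx.Basic.Q P (-((0 : ℕ) : ℤ) - 1)) := by
      have h := (hz 1 fun z _ => (hrk z).1).2.1
      simpa using h
    obtain ⟨W, hW, ⟨i⟩⟩ := ExchangeFP29.Main.exists_free_nhd f M 0 hP e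
      (hP.flat_Q_nonneg _ (by simp)) hq hyV
    obtain ⟨w⟩ := ExchangeFP29.Main.nonempty_zeroIso f M
    rw [(hrk y).2] at i
    exact ⟨W, hW, ⟨(Scheme.Modules.restrictFunctor W.ι).mapIso w.symm ≪≫ i⟩⟩
  refine ⟨E, q, hE, ?_⟩
  have hqE : Coh.IsQCoh E := by
    haveI := TensorMod.FPConv.isFP_of_isFinLocFree (TensorMod.LocFree.of_rank hE)
    exact (Perfect.Coherent.isCoh_of_isFinLocFree (TensorMod.LocFree.of_rank hE)).1
  obtain ⟨P, p, O1, q', hP, -⟩ := Cyc.CH.BdlExists.exists_isProjBundle (E := E) hqE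
  haveI : IsProper p := Cyc.CH.BdlUniq.isProper hP hE
  obtain ⟨h, ⟨hg, e, he⟩, -⟩ := hP.univ X f M (TensorMod.LocFree.of_isInvertible hM) q hq
  suffices IsIso h from isProjBundle_of_iso hP hq (TensorMod.LocFree.of_isInvertible hM) hg e he
  have hcov : ∀ y : S, ∃ (U : S.Opens), y ∈ U ∧ IsIso (h ∣_ (p ⁻¹ᵁ U)) := by
    intro y
    obtain ⟨V, hyV, ⟨i₀⟩⟩ := hE y
    obtain ⟨e₀, he₀⟩ := TensorMod.Basis.exists_basis_of_iso i₀
    obtain ⟨U, hU, hyU, hUV⟩ := exists_isAffineOpen_mem_and_subset (X := S) (x := y) (U := V) hyV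
    refine ⟨U, hyU, ?_⟩
    obtain ⟨j, hj, hjr, hjp, ⟨ih⟩⟩ := Chart.exists_chart' hP hU _ (he₀.res hUV)
    haveI := hj
    let O := h ⁻¹ᵁ (p ⁻¹ᵁ U)
    obtain ⟨f', hO⟩ := affine_square f hU O (by rw [← hg]; rfl)
    let A := Γ(S, U)
    haveI : IsNoetherianRing A := IsLocallyNoetherian.component_noetherian ⟨U, hU⟩
    haveI : IsProper f' := MorphismProperty.of_isPullback hO ‹IsProper f›
    haveI : Smooth f' := MorphismProperty.of_isPullback hO ‹Smooth f›
    let r : (O : Scheme.{u}) ⟶ CohB1.ProjSpace 1 A := IsOpenImmersion.lift j (O.ι ≫ h) (by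
      rw [hjr]
      rintro _ ⟨w, rfl⟩
      exact w.2)
    have hr : r ≫ j = O.ι ≫ h := IsOpenImmersion.lift_fac _ _ _
    have hrS : r ≫ CohB1.ProjSpace.toSpec 1 A = f' := by
      rw [← cancel_mono hU.fromSpec, Category.assoc, ← hjp, ← Category.assoc, hr, Category.assoc, hg]
      exact hO.w
    let τ : (Scheme.Modules.pullback r).obj (Twist.twistProjSpace 1 A 1) ≅
        (Scheme.Modules.pullback O.ι).obj M :=
      (Scheme.Modules.pullback r).mapIso ih.symm ≪≫ (Scheme.Modules.pullbackComp r j).app O1 ≪≫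
        (Scheme.Modules.pullbackCongr hr).app O1 ≪≫ ((Scheme.Modules.pullbackComp O.ι h).app O1).symm ≪≫
        (Scheme.Modules.pullback O.ι).mapIso e
    haveI := ProjSpace.Basic.isProper_toSpec 1 A
    haveI : LocallyOfFinitePresentation (CohB1.ProjSpace.toSpec 1 A) :=
      LocallyOfFinitePresentation.iff_locallyOfFiniteType.2 inferInstance
    obtain ⟨V', hV', hiso⟩ := Groth.Agent.S10888.result f' (CohB1.ProjSpace.toSpec 1 A) r hrS
    have hV'top : V' = ⊤ := top_unique fun x _ => by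
      let x' : PrimeSpectrum A := x
      let K := x'.asIdeal.ResidueField
      let κ : Spec (CommRingCat.of K) ⟶ Spec A := Spec.map (CommRingCat.ofHom (algebraMap A K))
      let F := f'.fiber x
      letI : F.Over (Spec (CommRingCat.of K)) :=
        ⟨f'.fiberToSpecResidueField x ≫ Spec.map (Scheme.Spec.residueFieldIso A x').inv⟩
      let p₀ := F ↘ Spec (CommRingCat.of K)
      let g := f'.fiberι x
      have hsq : IsPullback g p₀ f' κ := Fibre.isPullback_fiber f' x'
      haveI : IsPreimmersion κ := isPreimmersion_residue A x'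
      have hsq' : IsPullback (g ≫ O.ι) p₀ f (κ ≫ hU.fromSpec) := hsq.paste_horiz hO
      obtain ⟨hFp, hFi, hdF, h0, hgF⟩ := sq_facts f hdim hg0 (κ ≫ hU.fromSpec) (g ≫ O.ι) hsq'
      haveI := hFp
      haveI := hFi
      let c := projMap 1 (algebraMap A K)
      have hc : IsPullback c (CohB1.ProjSpace.toSpec 1 K) (CohB1.ProjSpace.toSpec 1 A) κ :=
        isPullback_projMap 1 (algebraMap A K)
      let i : F ⟶ CohB1.ProjSpace 1 K := hc.lift (g ≫ r) p₀ (by rw [Category.assoc, hrS]; exact hsq.w)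
      have hi : i ≫ c = g ≫ r := hc.lift_fst _ _ _
      have hd : Curv2.deg K F ((Scheme.Modules.pullback i).obj (Twist.twistProjSpace 1 K 1)) 1 = 1 := by
        obtain ⟨σ⟩ : Nonempty ((Scheme.Modules.pullback c).obj (Twist.twistProjSpace 1 A 1) ≅
            Twist.twistProjSpace 1 K 1) :=
          Groth.Agent.Lib.ProperFin.ProjFacts.nonempty_pullback_O 1 A K (algebraMap A K) 1
        rw [Curves.Euler.deg_eq_of_iso ((Scheme.Modules.pullback i).mapIso σ.symm ≪≫
          (Scheme.Modules.pullbackComp i c).app _ ≪≫ (Scheme.Modules.pullbackCongr hi).app _ ≪≫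
          ((Scheme.Modules.pullbackComp g r).app _).symm ≪≫ (Scheme.Modules.pullback g).mapIso τ ≪≫
          (Scheme.Modules.pullbackComp g O.ι).app M) 1]
        exact hdeg _ _ hsq' hdF
      haveI := isIso_of_deg_one hdF h0 hgF i (hc.lift_snd _ _ _) hd
      obtain ⟨ε, hε⟩ := GenusZero.exists_fiber_iso f' (CohB1.ProjSpace.toSpec 1 A) r κ
        (IsLocalRing.closedPoint K) g p₀ hsq c _ hc i hi
      have hx : κ (IsLocalRing.closedPoint K) = x := PrimeSpectrum.ext (by
        show (IsLocalRing.maximalIdeal K).comap (algebraMap A K) = x'.asIdeal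
        rw [IsLocalRing.maximalIdeal_eq_bot]
        exact (RingHom.ker_eq_comap_bot _).symm.trans (Ideal.ker_algebraMap_residueField _))
      exact hx ▸ (hV' _).2 ⟨ε, hε⟩
    subst hV'top
    haveI : IsIso r := by
      haveI := hiso
      haveI : IsIso (CohB1.ProjSpace.toSpec 1 A ⁻¹ᵁ (⊤ : (Spec A).Opens)).ι :=
        (CohB1.ProjSpace 1 A).topIso.isIso_hom
      haveI : IsIso (r ⁻¹ᵁ (CohB1.ProjSpace.toSpec 1 A ⁻¹ᵁ (⊤ : (Spec A).Opens))).ι :=
        (O : Scheme.{u}).topIso.isIso_hom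
      haveI : IsIso ((r ⁻¹ᵁ (CohB1.ProjSpace.toSpec 1 A ⁻¹ᵁ (⊤ : (Spec A).Opens))).ι ≫ r) := by
        rw [← morphismRestrict_ι]
        infer_instance
      exact IsIso.of_isIso_comp_left (r ⁻¹ᵁ (CohB1.ProjSpace.toSpec 1 A ⁻¹ᵁ (⊤ : (Spec A).Opens))).ι r
    let j₀ := IsOpenImmersion.isoOfRangeEq j (p ⁻¹ᵁ U).ι (hjr.trans (p ⁻¹ᵁ U).range_ι.symm)
    have hj₀ : h ∣_ (p ⁻¹ᵁ U) = r ≫ j₀.hom := by
      rw [← cancel_mono (p ⁻¹ᵁ U).ι, morphismRestrict_ι, Category.assoc,
        IsOpenImmersion.isoOfRangeEq_hom_fac, hr]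
    rw [hj₀]
    infer_instance
  choose U hyU hU using hcov
  exact (IsZariskiLocalAtTarget.iff_of_iSup_eq_top (P := MorphismProperty.isomorphisms Scheme.{u})
    (fun y => p ⁻¹ᵁ U y) (top_unique fun w _ => Opens.mem_iSup.2 ⟨p w, hyU _⟩)).2 hU

/-- The ideal of a section is an effective Cartier divisor. -/
theorem isEffCartier_section (hdim : ∀ s, topologicalKrullDim ↥(f.fiber s) = 1)
    (σ : S ⟶ X) (hσ : σ ≫ f = 𝟙 S) : BlowUp.IsEffCartierIdeal σ.ker := by
  haveI := DegOneSection.isClosedImmersion_section f σ hσ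
  haveI := AbelMono.smooth_relDim_one f hdim
  refine RelDiv.Cartier.isEffCartier_of_isFinLocFree f _ ?_
  have h1 : σ.toImage ≫ σ.ker.subschemeι ≫ f = 𝟙 _ := by
    rw [← Category.assoc]
    exact (congrArg (· ≫ f) σ.toImage_imageι).trans hσ
  haveI : IsIso (σ.toImage ≫ σ.ker.subschemeι ≫ f) := by rw [h1]; infer_instance
  haveI : IsIso (σ.ker.subschemeι ≫ f) := IsIso.of_isIso_comp_left σ.toImage _
  exact (HilbD.Sec.finLocFreeOfDeg_one_of_isIso (σ.ker.subschemeι ≫ f)).1

/-- A family of lines with a section is the projective bundle of a module of rank two. -/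
theorem exists_isProjBundle_of_section (hdim : ∀ s, topologicalKrullDim ↥(f.fiber s) = 1)
    (hg0 : ∀ s, CohIII.fiberRank f (Coh.structureModule X) 1 s = 0) (σ : S ⟶ X) (hσ : σ ≫ f = 𝟙 S) :
    ∃ (E : S.Modules) (L : X.Modules) (q : (Scheme.Modules.pullback f).obj E ⟶ L),
      FlatMod.IsFinLocFreeOfRank 2 E ∧ KRR.IsProjBundle f E L q := by
  have hJ := isEffCartier_section f hdim σ hσ
  obtain ⟨E, q, h1, h2⟩ := exists_isProjBundle_of_deg f hdim hg0
    (TensorMod.Invertible.isInvertible_dual (Lib.ClSub.Cartier.isInvertible_idealMod hJ))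
    (fun κ g hsq hdF => deg_fibre f σ hσ hJ κ g hsq hdF)
  exact ⟨E, _, q, h1, h2⟩

end Groth.Agent.H34.Ruled
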