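import Groth.Agent.H34.Ruled.Fibre
import Groth.Agent.Lib.GrpSch.ConnFibre
import Groth.Agent.H54.BCX.PushEdge
import Groth.Agent.H56.CohBase.FP
import Groth.Agent.H54.BCX.Main
import Groth.Agent.Lib.CohDelta.Edge
import Groth.Agent.S16952

/-!
# Ruled surfaces: the fibration and the direct image of the structure sheaf
-/

set_option autoImplicit false
set_option linter.style.haveILetI false
set_option maxHeartbeats 1000000
universe u

open CategoryTheory CategoryTheory.Limits AlgebraicGeometry Opposite TopologicalSpace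

noncomputable section

namespace Groth.Agent.H34.Ruled

open Groth.Agent Groth.Agent.Lib

/-- The edge map, linear over the base ring, when the higher direct images vanish. -/
theorem nonempty_edge {A : Type u} [CommRing A] {Z X : Scheme.{u}}
    [X.Over (Spec (CommRingCat.of A))] [Z.Over (Spec (CommRingCat.of A))] (i : Z ⟶ X)
    (hi : i ≫ (X ↘ Spec (CommRingCat.of A)) = (Z ↘ Spec (CommRingCat.of A)))
    [HasInjectiveResolutions Z.Modules] (H : Z.Modules)
    (hH : ∀ q : ℕ, 0 < q → IsZero ((Coh.Rpush i q).obj H)) (p : ℕ) :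
    Nonempty (Coh.HH Z H p ≃ₗ[A] Coh.HH X ((Scheme.Modules.pushforward i).obj H) p) := by
  have hs : ∀ (a : A) (x : Coh.HH X ((Scheme.Modules.pushforward i).obj H) p),
      CohPull.pushEdge i H p (a • x) = a • CohPull.pushEdge i H p x := fun a x => by
    refine Eq.trans ?_ ((H54.BCX.PushEdge.pushEdge_smulAb i H
      (i.appTop (Coh.toGlobal (X ↘ Spec (CommRingCat.of A)) a)) p x).trans ?_)
    · exact congrArg (fun φ => CohPull.pushEdge i H p (Sheaf.H.map φ p x))
        (H56.CohBase.FP.smulAb_push i H (Coh.toGlobal (X ↘ Spec (CommRingCat.of A)) a))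
    · refine congrArg (fun r : Coh.Γtop Z => r • CohPull.pushEdge i H p x) ?_
      show _ = (Z ↘ Spec (CommRingCat.of A)).appTop _
      rw [← hi]
      rfl
  exact ⟨(LinearEquiv.ofBijective
    { toFun := CohPull.pushEdge i H p, map_add' := map_add _, map_smul' := hs }
    (Groth.Agent.S16952.result i H hH p)).symm⟩

variable {k : Type u} [Field k] {X B : Scheme.{u}} [X.Over (Spec (CommRingCat.of k))]
  [B.Over (Spec (CommRingCat.of k))] [IsProper (B ↘ Spec (CommRingCat.of k))] [IsIntegral B] [IsIntegral X]

/-- A ruled surface is a smooth family of curves of genus zero with connected fibres. -/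
theorem family_facts [IsAlgClosed k] [IsProper (X ↘ Spec (CommRingCat.of k))]
    (hX2 : topologicalKrullDim X = 2) (hB1 : topologicalKrullDim B = 1)
    (hreg : ∀ b : B, IsRegularLocalRing (B.presheaf.stalk b))
    (π : X ⟶ B) (hπ : π ≫ (B ↘ Spec (CommRingCat.of k)) = X ↘ Spec (CommRingCat.of k))
    (hsurj : Function.Surjective π.base)
    (hfib : ∀ b : B, IsClosed ({b} : Set B) → Nonempty (π.fiber b ≅ CohB1.ProjSpace 1 k))
    (σ : B ⟶ X) (hσ : σ ≫ π = 𝟙 B) :
    Smooth π ∧ GeometricallyConnected π ∧ (∀ b : B, topologicalKrullDim ↥(π.fiber b) = 1) ∧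
      ∀ b : B, CohIII.fiberRank π (Coh.structureModule X) 1 b = 0 := by
  obtain ⟨hgi, -, hsm, hg0, hdη⟩ := generic_facts (k := k) hX2 hB1 hreg π hπ hsurj hfib
  haveI := hgi
  haveI := hsm
  have hcase : ∀ b : B, IsClosed ({b} : Set B) ∨ b = genericPoint B := fun b => by
    rcases H34.DimOne.isClosed_or_component hB1.le b with hc | hc
    · exact Or.inl hc
    · refine Or.inr ?_
      rw [irreducibleComponents_eq_singleton, Set.mem_singleton_iff] at hc
      exact ((specializes_iff_mem_closure.mpr (hc ▸ Set.mem_univ _)).antisymm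
        (genericPoint_specializes _)).eq
  haveI : IsProper (CohB1.ProjSpace.toSpec 1 k) := ProjSpace.Basic.isProper_toSpec 1 k
  have hdP : topologicalKrullDim (CohB1.ProjSpace 1 k) = 1 := by
    rw [ProjSpace.Dim.topologicalKrullDim_projSpace]; simp
  refine ⟨hsm, ?_, fun b => ?_, hg0⟩
  · refine GrpSch.geometricallyConnected_of_section π σ hσ fun b => ?_
    rcases hcase b with hb | rfl
    · obtain ⟨v⟩ := hfib b hb
      exact (Scheme.homeoOfIso v).symm.surjective.connectedSpace (Scheme.homeoOfIso v).symm.continuous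
    · haveI : IsIntegral (π.fiber (genericPoint B)) := GeometricallyIntegral.geometrically_isIntegral
        (f := π.fiberToSpecResidueField (genericPoint B)) (𝟙 _) (𝟙 (π.fiber (genericPoint B)))
        (π.fiberToSpecResidueField (genericPoint B)) IsPullback.of_id_fst
      infer_instance
  · rcases hcase b with hb | rfl
    · obtain ⟨v⟩ := hfib b hb
      exact (Scheme.homeoOfIso v).isHomeomorph.topologicalKrullDim_eq.trans hdP
    · exact hdη

end Groth.Agent.H34.Ruled
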