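import Groth.Agent.PD92.ProjDeform
import Groth.Agent.H34.Elliptic.Torsion
import Groth.Agent.H2.Rigid.GeomIrred
import Groth.Agent.H75.Birat.Gen
import Groth.Agent.Lib.Flat55.SmoothAt
import Groth.Agent.Lib.JacCrit.OverField
import Groth.Agent.Lib.Flat55.FlatEquidim
import Groth.Agent.S10887
import Groth.Agent.S2500
import Mathlib.AlgebraicGeometry.AlgClosed.Basic

/-!
# Fibrations of surfaces in lines
-/

set_option autoImplicit false
set_option linter.style.haveILetI false
universe u

open CategoryTheory CategoryTheory.Limits AlgebraicGeometry Opposite TopologicalSpace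

noncomputable section

namespace Groth.Agent.H34.Ruled

open Groth.Agent Groth.Agent.Lib

variable {k : Type u} [Field k]

/-- An open set containing the closed points is everything. -/
theorem eq_top_of_closedPoints {B : Scheme.{u}} [JacobsonSpace B] (U : Set B) (hU : IsOpen U)
    (h : ∀ b : B, IsClosed ({b} : Set B) → b ∈ U) (b : B) : b ∈ U := by
  by_contra hb
  obtain ⟨z, hz, hzc⟩ := nonempty_inter_closedPoints (Z := Uᶜ) ⟨b, hb⟩ hU.isClosed_compl.isLocallyClosed
  exact hz (h z hzc)

/-- A proper scheme over a field isomorphic to the line as a scheme. -/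
theorem facts_of_iso [IsAlgClosed k] {L : Type u} [Field L] [IsAlgClosed L] {F : Scheme.{u}}
    [F.Over (Spec (CommRingCat.of L))] [IsProper (F ↘ Spec (CommRingCat.of L))]
    (v : F ⟶ CohB1.ProjSpace 1 k) [IsIso v] :
    Smooth (F ↘ Spec (CommRingCat.of L)) ∧
      Module.finrank L (Coh.HH F (Coh.structureModule F) 0) = 1 ∧
      Module.finrank L (Coh.HH F (Coh.structureModule F) 1) = 0 := by
  haveI := ProjSpace.Basic.isProper_toSpec 1 k
  haveI := ProjSpace.Basic.smooth_toSpec 1 k
  haveI : Nonempty F := ⟨(asIso v).inv (genericPoint (CohB1.ProjSpace 1 k))⟩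
  haveI : IsIntegral F := isIntegral_of_isOpenImmersion v
  haveI : LocallyOfFinitePresentation (F ↘ Spec (CommRingCat.of L)) :=
    LocallyOfFinitePresentation.iff_locallyOfFiniteType.2 inferInstance
  haveI hsm : Smooth (F ↘ Spec (CommRingCat.of L)) := by
    rw [← Scheme.Hom.smoothLocus_eq_top_iff]
    refine eq_top_iff.2 fun z _ => JacCrit.OverField.mem_smoothLocus_of_isRegular _ z ?_
    haveI := Cyc.SmoothReg.isRegularLocalRing_stalk (CohB1.ProjSpace.toSpec 1 k) (v z)
    exact IsRegularLocalRing.of_ringEquiv (asIso (v.stalkMap z)).commRingCatIsoToRingEquiv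
  haveI := S2500.result (F ↘ Spec (CommRingCat.of L))
  haveI := H2.Rigid.GeomIrred.geometricallyConnected (F ↘ Spec (CommRingCat.of L))
  refine ⟨hsm, CurveFF.finrank_h0_eq_one L F, ?_⟩
  haveI : Subsingleton (Coh.HH F (Coh.structureModule F) 1) :=
    Groth.Agent.Lib.SqZeroLift.Criteria.subsingleton_HH_of_iso
      ((Scheme.Modules.pullback v).mapIso ProjCoh.Coherent.twZero ≪≫ PicLoc.pullbackStructureIso v)
      (PD92.ProjDeform.subsingleton_HH_twist 1 v (d := 0) (by omega) (by omega))
  exact Module.finrank_zero_of_subsingleton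

variable {X B : Scheme.{u}} [X.Over (Spec (CommRingCat.of k))] [B.Over (Spec (CommRingCat.of k))]
  [IsProper (B ↘ Spec (CommRingCat.of k))] [IsIntegral B] [IsIntegral X]

/-- The generic fibre of a fibration in lines. -/
theorem generic_facts [IsAlgClosed k] [IsProper (X ↘ Spec (CommRingCat.of k))]
    (hX2 : topologicalKrullDim X = 2) (hB1 : topologicalKrullDim B = 1)
    (hreg : ∀ b : B, IsRegularLocalRing (B.presheaf.stalk b))
    (π : X ⟶ B) (hπ : π ≫ (B ↘ Spec (CommRingCat.of k)) = X ↘ Spec (CommRingCat.of k))
    (hsurj : Function.Surjective π.base)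
    (hfib : ∀ b : B, IsClosed ({b} : Set B) → Nonempty (π.fiber b ≅ CohB1.ProjSpace 1 k)) :
    GeometricallyIntegral (π.fiberToSpecResidueField (genericPoint B)) ∧
      (letI : (π.fiber (genericPoint B)).Over (Spec (B.residueField (genericPoint B))) :=
        ⟨π.fiberToSpecResidueField (genericPoint B)⟩
      Curv2.genus (B.residueField (genericPoint B)) (π.fiber (genericPoint B)) = 0) ∧
      Smooth π ∧ (∀ b : B, CohIII.fiberRank π (Coh.structureModule X) 1 b = 0) ∧
      topologicalKrullDim ↥(π.fiber (genericPoint B)) = 1 := by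
  haveI : IsNoetherian B := Curves.GlobalSections.isNoetherian_of_proper k B
  haveI : JacobsonSpace B := LocallyOfFiniteType.jacobsonSpace (B ↘ Spec (CommRingCat.of k))
  haveI : JacobsonSpace X := LocallyOfFiniteType.jacobsonSpace (X ↘ Spec (CommRingCat.of k))
  haveI : IsProper (π ≫ (B ↘ Spec (CommRingCat.of k))) := hπ.symm ▸ inferInstance
  haveI : IsProper π := IsProper.of_comp π (B ↘ Spec (CommRingCat.of k))
  haveI : LocallyOfFinitePresentation π :=
    LocallyOfFinitePresentation.iff_locallyOfFiniteType.2 inferInstance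
  haveI : Flat π := (Groth.Agent.S10887.result hreg hB1.le π).2 fun Z hZ => by
    rw [irreducibleComponents_eq_singleton, Set.mem_singleton_iff] at hZ
    rw [hZ, Set.image_univ, hsurj.range_eq]
    exact dense_univ
  have hO := TensorMod.LocFree.of_rank (TensorMod.LocFree.of_isInvertible
    (PicLoc.isInvertible_structureModule X))
  haveI : (Coh.structureModule X).IsQuasicoherent :=
    TensorMod.QCohInv.isQCoh_of_isInvertible (PicLoc.isInvertible_structureModule X)
  have hFP := TensorMod.FPConv.isFP_of_isFinLocFree hO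
  have hfl := _root_.ZarCoh.Exchange.NearFibre.isFlatOver_of_isFinLocFree π hO
  have hfr : ∀ (b : B) (i : ℕ), CohIII.fiberRank π (Coh.structureModule X) i b =
      (letI : (π.fiber b).Over (Spec (B.residueField b)) := ⟨π.fiberToSpecResidueField b⟩
      Module.finrank (B.residueField b) (Coh.HH (π.fiber b) (Coh.structureModule (π.fiber b)) i)) :=
    fun b i => by
      letI : (π.fiber b).Over (Spec (B.residueField b)) := ⟨π.fiberToSpecResidueField b⟩
      exact Curves.Euler.hdim_eq_of_iso (k := B.residueField b) (PicLoc.pullbackStructureIso (π.fiberι b)) i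
  have hcl : ∀ b : B, IsClosed ({b} : Set B) → Smooth (π.fiberToSpecResidueField b) ∧
      CohIII.fiberRank π (Coh.structureModule X) 0 b = 1 ∧
      CohIII.fiberRank π (Coh.structureModule X) 1 b = 0 := fun b hb => by
    haveI : IsAlgClosed (B.residueField b) := IsAlgClosed.of_ringEquiv k _
      (residueFieldIsoBase (B ↘ Spec (CommRingCat.of k)) b hb).symm.commRingCatIsoToRingEquiv
    letI : (π.fiber b).Over (Spec (CommRingCat.of (B.residueField b))) := ⟨π.fiberToSpecResidueField b⟩
    haveI : IsProper (π.fiber b ↘ Spec (CommRingCat.of (B.residueField b))) :=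
      MorphismProperty.pullback_snd _ _ ‹IsProper π›
    obtain ⟨v⟩ := hfib b hb
    obtain ⟨h1, h2, h3⟩ := facts_of_iso (k := k) (L := B.residueField b) v.hom
    exact ⟨h1, (hfr b 0).trans h2, (hfr b 1).trans h3⟩
  haveI hsm : Smooth π := by
    rw [← Scheme.Hom.smoothLocus_eq_top_iff]
    refine eq_top_iff.2 fun z _ =>
      eq_top_of_closedPoints (π.smoothLocus : Set X) π.smoothLocus.2 (fun x hx => ?_) z
    refine Flat55.SmoothAt.mem_smoothLocus_of_fibre π x (Flat.stalkMap π x) (π x) rfl (hcl _ ?_).1
    simpa using π.isClosedMap _ hx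
  let η := genericPoint B
  let F := π.fiber η
  letI : F.Over (Spec (CommRingCat.of (B.residueField η))) := ⟨π.fiberToSpecResidueField η⟩
  haveI : IsProper (F ↘ Spec (CommRingCat.of (B.residueField η))) :=
    MorphismProperty.pullback_snd _ _ ‹IsProper π›
  haveI : Smooth (F ↘ Spec (CommRingCat.of (B.residueField η))) :=
    MorphismProperty.pullback_snd _ _ hsm
  have hηX : π (genericPoint X) = η := by
    obtain ⟨z', hz'⟩ := hsurj η
    have h1 : π (genericPoint X) ⤳ η := hz' ▸ (genericPoint_specializes z').map π.continuous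
    exact h1.antisymm (genericPoint_specializes _) |>.eq
  obtain ⟨ξ, hξ⟩ : genericPoint X ∈ Set.range (π.fiberι η) := (π.range_fiberι η).ge hηX
  haveI : IrreducibleSpace F := by
    haveI : Nonempty F := ⟨ξ⟩
    haveI : PreirreducibleSpace F := by
      have huniv : closure ({ξ} : Set F) = Set.univ := by
        refine Set.eq_univ_of_forall fun z => specializes_iff_mem_closure.1 ?_
        rw [← (π.fiberι η).isEmbedding.isInducing.specializes_iff, hξ]
        exact genericPoint_specializes _
      exact ⟨huniv ▸ isPreirreducible_singleton.closure⟩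
    exact ⟨inferInstance⟩
  haveI : IsIntegral F := H2.Rigid.GeomIrred.isIntegral_of_smooth (F ↘ Spec (CommRingCat.of (B.residueField η)))
  have hdF : topologicalKrullDim F = 1 := by
    have hcl : topologicalKrullDim (closure (Set.range π.base)) = (1 : ℕ) := by
      rw [Function.Surjective.range_eq hsurj, closure_univ,
        (Homeomorph.Set.univ B).isHomeomorph.topologicalKrullDim_eq, hB1]
      rfl
    obtain ⟨-, hop, hdense⟩ := Flat55.FlatEquidim.fibreDimAt_generic (X ↘ Spec (CommRingCat.of k))
      (B ↘ Spec (CommRingCat.of k)) π hπ 2 1 (by rw [hX2]; rfl) hcl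
    obtain ⟨z, hz⟩ := hdense.nonempty
    have hgen : FlatMor.fibreDimAt π (genericPoint X) = ((2 - 1 : ℕ) : WithBot ℕ∞) :=
      (genericPoint_specializes z).mem_open hop hz
    rw [FlatMor.fibreDimAt] at hgen
    haveI : IrreducibleSpace (π.fiber (π (genericPoint X))) := by rw [hηX]; infer_instance
    haveI : @LocallyOfFiniteType _ (Spec (CommRingCat.of (B.residueField (π (genericPoint X)))))
        (π.fiberToSpecResidueField (π (genericPoint X))) :=
      MorphismProperty.pullback_snd _ _ inferInstance
    rw [@JacCrit.OverField.localDim_eq_of_irreducible (B.residueField (π (genericPoint X))) _ _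
      (π.fiberToSpecResidueField (π (genericPoint X))) ‹_› (MorphismProperty.pullback_snd _ _ inferInstance), hηX] at hgen
    exact hgen
  have h1 : CohIII.fiberRank π (Coh.structureModule X) 1 η = 0 :=
    eq_top_of_closedPoints {s : B | CohIII.fiberRank π (Coh.structureModule X) 1 s = 0}
      (ExchangeFP29.Main.isOpen_fiberRank_eq_zero π (Coh.structureModule X) hFP hfl 1)
      (fun b hb => (hcl b hb).2.2) η
  have h0 : CohIII.fiberRank π (Coh.structureModule X) 0 η < 2 :=
    eq_top_of_closedPoints {s : B | CohIII.fiberRank π (Coh.structureModule X) 0 s < 2}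
      (ExchangeFP29.Main.isOpen_fiberRank_lt π (Coh.structureModule X) hFP hfl 0 2)
      (fun b hb => by show _ < 2; rw [(hcl b hb).2.1]; norm_num) η
  rw [hfr] at h0 h1
  have hpos : Module.finrank (B.residueField η) (Coh.HH F (Coh.structureModule F) 0) ≠ 0 := by
    haveI := (Curves.Degree.isGood_structureModule (k := B.residueField η) (X := F) hdF.le).fin₀
    haveI : Nontrivial Γ(F, ⊤) := by
      haveI : Nonempty (⊤ : F.Opens) := ⟨⟨ξ, trivial⟩⟩
      infer_instance
    letI := Curves.GlobalSections.secModule (B.residueField η) (Coh.structureModule F)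
    haveI : Nontrivial ((Coh.structureModule F).val.obj (op ⊤) : Type u) := ‹Nontrivial Γ(F, ⊤)›
    haveI : Nontrivial (Coh.HH F (Coh.structureModule F) 0) :=
      (Curves.GlobalSections.h0Linear (B.residueField η) (Coh.structureModule F)).toEquiv.nontrivial
    exact Nat.pos_iff_ne_zero.1 Module.finrank_pos
  have h0'' : Module.finrank (B.residueField η) (Coh.HH F (Coh.structureModule F) 0) < 2 := h0
  have h0' : Module.finrank (B.residueField η) (Coh.HH F (Coh.structureModule F) 0) = 1 := by omega
  haveI := H34.Elliptic.Torsion.geometricallyConnected_of_h0 (k := B.residueField η) (X := F) h0'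
  exact ⟨H2.Rigid.GeomIrred.geometricallyIntegral_of_smooth (F ↘ Spec (CommRingCat.of (B.residueField η))), h1,
    hsm, fun b => eq_top_of_closedPoints {s : B | CohIII.fiberRank π (Coh.structureModule X) 1 s = 0}
      (ExchangeFP29.Main.isOpen_fiberRank_eq_zero π (Coh.structureModule X) hFP hfl 1)
      (fun b hb => (hcl b hb).2.2) b, hdF⟩

end Groth.Agent.H34.Ruled
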