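import Groth.Agent.H34.Ruled.Facts
import Groth.Agent.Lib.SurfInt.Effective
import Groth.Agent.Lib.SurfInt.PushIso
import Groth.Agent.Lib.SurfInt.Push
import Groth.Agent.Lib.Snapper.Finite
import Groth.Agent.Lib.Modules.ProjFormula
import Groth.Agent.Lib.Modules.DualBasis
import Groth.Agent.Lib.Curves.PointIdeal
import Groth.Agent.Lib.Curves.GenusZero
import Groth.Agent.Lib.ModelFibre.P1Curve
import Groth.Agent.H4.CartierUFD

/-!
# Intersection numbers with the fibres of a ruled surface
-/

set_option autoImplicit false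
set_option linter.style.haveILetI false
set_option maxHeartbeats 1000000
universe u

open CategoryTheory CategoryTheory.Limits AlgebraicGeometry Opposite TopologicalSpace

noncomputable section

namespace Groth.Agent.H34.Ruled

open Groth.Agent Groth.Agent.Lib Groth.Agent.Lib.TensorMod.Basic
open Groth.Agent.Lib.ModelFibre.P1Curve (finrank_eq_mul gdim)

variable {k : Type u} [Field k] {X B : Scheme.{u}} [X.Over (Spec (CommRingCat.of k))]
  [B.Over (Spec (CommRingCat.of k))] [IsProper (B ↘ Spec (CommRingCat.of k))] [IsIntegral B]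

/-- A closed point of a regular curve is a Cartier divisor. -/
theorem isEffCartier_point [IsLocallyNoetherian B] (hB1 : topologicalKrullDim B = 1)
    (hreg : ∀ b : B, IsRegularLocalRing (B.presheaf.stalk b)) {y : B} (hy : IsClosed ({y} : Set B)) :
    BlowUp.IsEffCartierIdeal (Curves.PointIdeal.ptI hy) := by
  have hmem : ∀ z ∈ (Curves.PointIdeal.ptI hy).support, z = y := fun z hz => by
    have : z ∈ ((Curves.PointIdeal.ptI hy).support : Set B) := hz
    rwa [Curves.PointIdeal.support_ptI] at this
  refine H4.CartierUFD.isEffCartier_of_assoc _ (fun z hz _ => ?_) fun z hz => ?_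
  · obtain rfl := hmem z hz
    exact Curves.GenusZero.one_le_dim_stalk hB1 hy
  · haveI := hreg z
    haveI := Regular.Quotient.isDomain (B.presheaf.stalk z)
    exact ⟨inferInstance, Regular.UFD.uniqueFactorizationMonoid (B.presheaf.stalk z)⟩

variable [IsProper (X ↘ Spec (CommRingCat.of k))] [IsIntegral X] [IsAlgClosed k]

/-- The intersection number with a closed fibre is minus a degree, and governs the cohomology there. -/
theorem closed_fibre (hX2 : topologicalKrullDim X = 2) (hB1 : topologicalKrullDim B = 1)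
    (hreg : ∀ b : B, IsRegularLocalRing (B.presheaf.stalk b))
    (π : X ⟶ B) [IsProper π] [Flat π] (hπ : π ≫ (B ↘ Spec (CommRingCat.of k)) = X ↘ Spec (CommRingCat.of k))
    (hfib : ∀ b : B, IsClosed ({b} : Set B) → Nonempty (π.fiber b ≅ CohB1.ProjSpace 1 k))
    (L : X.Modules) (hL : PicF.IsInvertible L) (y : B) (hy : IsClosed ({y} : Set B)) :
    ∃ d : ℤ, FGA.intNum k X 2 ![L, ClSub.idealMod ((Scheme.IdealSheafData.vanishingIdeal ⟨{y}, hy⟩).comap π)]
        (Coh.structureModule X) = -d ∧
      (-1 ≤ d → CohIII.fiberRank π L 1 y = 0 ∧ (CohIII.fiberRank π L 0 y : ℤ) = d + 1) := by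
  haveI : IsNoetherian X := Curves.GlobalSections.isNoetherian_of_proper k X
  haveI : IsLocallyNoetherian B := LocallyOfFiniteType.isLocallyNoetherian (B ↘ Spec (CommRingCat.of k))
  let κy := B.fromSpecResidueField y
  haveI : IsClosedImmersion κy := IsClosedImmersion.of_isPreimmersion _ (by
    rw [Scheme.range_fromSpecResidueField]; exact hy)
  let F := π.fiber y
  let ι : F ⟶ X := π.fiberι y
  haveI : IsClosedImmersion ι := MorphismProperty.pullback_fst _ _ (inferInstanceAs (IsClosedImmersion κy))
  let I := (Scheme.IdealSheafData.vanishingIdeal ⟨{y}, hy⟩).comap π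
  have hker : ι.ker = I := by
    refine (Scheme.IdealSheafData.ker_fst_of_isClosedImmersion κy π).trans ?_
    rw [Curves.PointIdeal.ker_fromSpecResidueField hy]
  have hI : PicF.IsInvertible (ClSub.idealMod I) := Lib.ClSub.Cartier.isInvertible_idealMod
    (Ideal.EffCartier.isEffCartier_comap_of_flat π (isEffCartier_point hB1 hreg hy))
  letI : F.Over (Spec (CommRingCat.of k)) := ⟨ι ≫ (X ↘ Spec (CommRingCat.of k))⟩
  haveI : IsProper (F ↘ Spec (CommRingCat.of k)) :=
    inferInstanceAs (IsProper (ι ≫ (X ↘ Spec (CommRingCat.of k))))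
  obtain ⟨v⟩ := hfib y hy
  haveI : Nonempty F := ⟨v.inv (genericPoint (CohB1.ProjSpace 1 k))⟩
  haveI : IsIntegral F := isIntegral_of_isOpenImmersion v.hom
  haveI : IsNoetherian F := Curves.GlobalSections.isNoetherian_of_proper k F
  have hdF : topologicalKrullDim F = 1 := by
    haveI := ProjSpace.Basic.isProper_toSpec 1 k
    refine (Scheme.homeoOfIso v).isHomeomorph.topologicalKrullDim_eq.trans ?_
    rw [ProjSpace.Dim.topologicalKrullDim_projSpace]; simp
  obtain ⟨-, h0, h1⟩ := facts_of_iso (k := k) (L := k) v.hom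
  let M := (Scheme.Modules.pullback ι).obj L
  have hM : PicF.IsInvertible M := PicLoc.isInvertible_pullback ι hL
  refine ⟨Curv2.deg k F M 1, ?_, fun hd => ?_⟩
  · have hE := Modules.DualBasis.hasDBases_of_isFinLocFree
      (TensorMod.LocFree.of_rank (TensorMod.LocFree.of_isInvertible hL))
    haveI : IsIso ι.toImage := inferInstance
    haveI := SurfInt.PushIso.isIso_unitToPush ι.toImage
    let e₀ : _root_.ClSub.quotMod ι.ker ≅ (Coh.push ι).obj (Coh.structureModule F) :=
      (Coh.push ι.ker.subschemeι).mapIso (asIso (_root_.ClSub.unitToPush ι.toImage)) ≪≫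
        ((Scheme.Modules.pushforwardComp ι.toImage ι.ker.subschemeι).app _) ≪≫
        ((Scheme.Modules.pushforwardCongr ι.toImage_imageι).app _)
    let e : CohB1.tensorMod L (_root_.ClSub.quotMod ι.ker) ≅ (Coh.push ι).obj M :=
      tensorIso (Iso.refl L) e₀ ≪≫
        (Modules.ProjFormula.projIso ι hE).app (Coh.structureModule F) ≪≫
        (Coh.push ι).mapIso (rightUnit M)
    haveI : M.IsQuasicoherent := TensorMod.QCohInv.isQCoh_of_isInvertible hM
    haveI : (Coh.structureModule F).IsQuasicoherent :=
      TensorMod.QCohInv.isQCoh_of_isInvertible (PicLoc.isInvertible_structureModule F)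
    have hd1 : topologicalKrullDim F ≤ ((1 : ℕ) : WithBot ℕ∞) := by rw [hdF]; norm_num
    have hX2' : topologicalKrullDim X ≤ ((2 : ℕ) : WithBot ℕ∞) := by rw [hX2]; norm_num
    change FGA.intNum k X 2 ![L, ClSub.idealMod I] (Coh.structureModule X) = _
    rw [Snapper.IntNum.intNum_pair_comm,
      SurfInt.Effective.intNum_ideal (Snapper.Finite.cohFinite k X) hX2' hI hL, ← hker,
      Snapper.Chi.eulerCharLE_of_iso e₀ 2, Snapper.Chi.eulerCharLE_of_iso e 2,
      SurfInt.Push.eulerCharLE_push ι rfl, SurfInt.Push.eulerCharLE_push ι rfl,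
      Snapper.Chi.eulerCharLE_eq_of_le hd1 one_le_two, Snapper.Chi.eulerCharLE_eq_of_le hd1 one_le_two,
      ← Snapper.Chi.euler_eq_eulerCharLE hd1, ← Snapper.Chi.euler_eq_eulerCharLE hd1,
      Curves.Degree.deg_eq]
    ring
  · have hbig : 2 * (Curv2.genus k F : ℤ) - 2 < Curv2.deg k F M 1 := by
      rw [show Curv2.genus k F = 0 from h1]
      norm_num
      omega
    haveI := Curves.Clifford.subsingleton_one_of_deg k hdF.le h0 hM hbig
    have hz := Curves.Clifford.hdim_zero_eq_of_deg k hdF.le h0 hM hbig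
    rw [show Curv2.genus k F = 0 from h1] at hz
    have hFd := isField_of_universallyClosed k (F ↘ Spec (CommRingCat.of k))
    have e1 : Curves.Euler.hdim k F M 0 = gdim M 0 := by
      have e := finrank_eq_mul (K := k) hFd M 0
      rw [h0, one_mul] at e
      exact e
    refine ⟨?_, ?_⟩
    · haveI : Subsingleton (CohIII.fiberH π L y 1) := by
        exact ‹Subsingleton (Coh.HH F M 1)›
      exact Module.finrank_zero_of_subsingleton
    · letI : F.Over (Spec (CommRingCat.of (B.residueField y))) := ⟨π.fiberToSpecResidueField y⟩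
      haveI : IsProper (F ↘ Spec (CommRingCat.of (B.residueField y))) :=
        MorphismProperty.pullback_snd _ _ ‹IsProper π›
      haveI : IsAlgClosed (B.residueField y) := IsAlgClosed.of_ringEquiv k _
        (residueFieldIsoBase (B ↘ Spec (CommRingCat.of k)) y hy).symm.commRingCatIsoToRingEquiv
      have h0' := Curves.GlobalSections.finrank_h0_structure (B.residueField y) F
      have e2 := finrank_eq_mul (K := B.residueField y) hFd M 0
      rw [h0', one_mul] at e2
      change (Curves.Euler.hdim (B.residueField y) F M 0 : ℤ) = _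
      rw [show Curves.Euler.hdim (B.residueField y) F M 0 = gdim M 0 from e2, ← e1, hz]
      ring

/-- The cohomology of a module of fibre degree at least minus one, on every fibre. -/
theorem fibre_ranks (hX2 : topologicalKrullDim X = 2) (hB1 : topologicalKrullDim B = 1)
    (hreg : ∀ b : B, IsRegularLocalRing (B.presheaf.stalk b))
    (π : X ⟶ B) [IsProper π] [Flat π] [LocallyOfFinitePresentation π]
    (hπ : π ≫ (B ↘ Spec (CommRingCat.of k)) = X ↘ Spec (CommRingCat.of k))
    (hdim : ∀ b : B, topologicalKrullDim ↥(π.fiber b) = 1)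
    (hfib : ∀ b : B, IsClosed ({b} : Set B) → Nonempty (π.fiber b ≅ CohB1.ProjSpace 1 k))
    (L : X.Modules) (hL : PicF.IsInvertible L)
    (hdeg : ∀ (y : B) (hy : IsClosed ({y} : Set B)), FGA.intNum k X 2
      ![L, ClSub.idealMod ((Scheme.IdealSheafData.vanishingIdeal ⟨{y}, hy⟩).comap π)]
      (Coh.structureModule X) ≤ 1) :
    (∀ i, 1 ≤ i → ∀ b : B, CohIII.fiberRank π L i b = 0) ∧
      ∀ n : ℕ, (∀ (y : B) (hy : IsClosed ({y} : Set B)), FGA.intNum k X 2
        ![L, ClSub.idealMod ((Scheme.IdealSheafData.vanishingIdeal ⟨{y}, hy⟩).comap π)]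
        (Coh.structureModule X) = -(n : ℤ)) → ∀ b : B, CohIII.fiberRank π L 0 b = n + 1 := by
  haveI : JacobsonSpace B := LocallyOfFiniteType.jacobsonSpace (B ↘ Spec (CommRingCat.of k))
  have hlf := TensorMod.LocFree.of_rank (TensorMod.LocFree.of_isInvertible hL)
  have hFP := TensorMod.FPConv.isFP_of_isFinLocFree hlf
  haveI : L.IsQuasicoherent := TensorMod.QCohInv.isQCoh_of_isInvertible hL
  have hfl := _root_.ZarCoh.Exchange.NearFibre.isFlatOver_of_isFinLocFree π hlf
  have hv : ∀ i, 1 ≤ i → ∀ b : B, CohIII.fiberRank π L i b = 0 := fun i hi b => by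
    rcases Nat.lt_or_ge 1 i with h | h
    · haveI := H54.BCX.Main.subsingleton_fiberH (f := π) (F := L) (d := 1) b
        (by exact_mod_cast (hdim b).le) h
      exact Module.finrank_zero_of_subsingleton
    · obtain rfl : i = 1 := by omega
      refine eq_top_of_closedPoints {s : B | CohIII.fiberRank π L 1 s = 0}
        (ExchangeFP29.Main.isOpen_fiberRank_eq_zero π L hFP hfl 1) (fun y hy => ?_) b
      obtain ⟨d, hd, hrk⟩ := closed_fibre hX2 hB1 hreg π hπ hfib L hL y hy
      exact (hrk (by linarith [hdeg y hy])).1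
  refine ⟨hv, fun n hn b => ?_⟩
  have heuler : ∀ s : B, PerfAux.eulerChar π L s = CohIII.fiberRank π L 0 s := fun s => by
    rw [PerfAux.eulerChar, finsum_eq_single _ 0 fun i hi => by
      rw [ExchangeFP29.Main.betti_eq, hv i (Nat.one_le_iff_ne_zero.2 hi) s]; simp]
    simp [ExchangeFP29.Main.betti_eq]
  obtain ⟨y, -, hy⟩ := nonempty_inter_closedPoints (Z := (Set.univ : Set B)) ⟨b, trivial⟩
    isClosed_univ.isLocallyClosed
  have hc := (ExchangeFP29.Main.isLocallyConstant_eulerChar π L hFP hfl).apply_eq_of_preconnectedSpace b y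
  rw [heuler, heuler] at hc
  obtain ⟨d, hd, hrk⟩ := closed_fibre hX2 hB1 hreg π hπ hfib L hL y hy
  have hdn : d = n := by have := hn y hy; omega
  have := (hrk (by omega)).2
  omega

end Groth.Agent.H34.Ruled
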